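import Groth.Agent.AlgSpc.EtQuot
import Groth.Agent.AlgSpc.LocP
import Groth.Agent.AlgSpc.FibreProd
import Groth.Agent.AlgSpDesc.Atlas
import Groth.Agent.AlgSpLoc.Inst3
import Groth.Agent.RedSepLib.Reduced
import Groth.Agent.SmoothReduced.Basic
import Groth.Agent.FpqcDescent.ReducedSub
import Groth.Agent.AlgSpLoc.Cover
import Groth.Agent.AlgSpDesc.FactorPoint

/-!
The reduced closed subspace attached to a closed set of points of an algebraic space.
-/

set_option autoImplicit false
set_option linter.style.haveILetI false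
set_option backward.isDefEq.respectTransparency false
universe u

open CategoryTheory Limits AlgebraicGeometry
open AlgSp

namespace Groth.Agent.AlgSpRedSub

open Groth.Agent.AlgSpc

variable {S : Scheme.{u}}

theorem mono_of_closedImmersion {A B : Over S} (f : A ⟶ B) [IsClosedImmersion f.left] : Mono f :=
  Functor.mono_of_mono_map (Over.forget S) (inferInstanceAs (Mono f.left))

/-- A reduced scheme over `S` lifts through a closed immersion containing its image. -/
theorem exists_lift {A B C : Over S} [IsReduced A.left] (f : A ⟶ B) (j : C ⟶ B) [IsClosedImmersion j.left]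
    (h : Set.range f.left ⊆ Set.range j.left) : ∃ g : A ⟶ C, g ≫ j = f := by
  obtain ⟨g, hg⟩ := RedSepLib.exists_lift_of_range_subset f.left j.left h
  exact ⟨Over.homMk g (by rw [← Over.w j, reassoc_of% hg, Over.w f]), Over.OverMorphism.ext hg⟩

/-- Every closed set of points is the set of points of a reduced closed subspace. -/
theorem exists_redSub (X : Space S) {T : Set (Points X.obj)} (hT : IsClosed T) :
    ∃ (Z : Space S) (i : Z ⟶ X), RepWith @IsClosedImmersion i.hom ∧
      EtaleLocally (fun U => IsReduced U) Z.obj ∧ Set.range (Points.map i.hom) = T := by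
  obtain ⟨V, b, hb, hbs⟩ := X.property.atlas
  let I := Scheme.IdealSheafData.vanishingIdeal (X := V.left)
    ⟨Points.ofPt b ⁻¹' T, hT.preimage (Points.continuous_ofPt b)⟩
  let C : Over S := Over.mk (I.subschemeι ≫ V.hom)
  let ι : C ⟶ V := Over.homMk I.subschemeι rfl
  haveI : IsClosedImmersion ι.left := inferInstanceAs (IsClosedImmersion I.subschemeι)
  haveI : IsReduced C.left := inferInstanceAs (IsReduced I.subscheme)
  haveI := mono_of_closedImmersion ι
  have hι : Set.range ι.left = Points.ofPt b ⁻¹' T := by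
    change Set.range I.subschemeι = _
    rw [Scheme.IdealSheafData.range_subschemeι, Scheme.IdealSheafData.coe_support_vanishingIdeal]
    rfl
  obtain ⟨R, t₀, s, sq⟩ := exists_sq hb.1 b
  obtain ⟨t, rfl⟩ := (yon S).map_surjective t₀
  haveI : Etale s.left := hb.2 _ _ _ sq
  haveI : Etale t.left := by
    have := sq_etale sq hb
    rwa [pre_map] at this
  have hst : ∀ z : ↥R.left, Points.ofPt b (t.left z) = Points.ofPt b (s.left z) := fun z => by
    rw [← ofPt_comp, ← ofPt_comp, sq.w]
  -- the two restrictions of the relation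
  have sqS := (IsPullback.of_hasPullback s ι).map (Over.forget S)
  have sqT := (IsPullback.of_hasPullback t ι).map (Over.forget S)
  haveI hc₂ : Etale (pullback.snd s ι).left := MorphismProperty.of_isPullback (P := @Etale) sqS ‹Etale s.left›
  haveI hc₁ : Etale (pullback.snd t ι).left := MorphismProperty.of_isPullback (P := @Etale) sqT ‹Etale t.left›
  haveI : IsClosedImmersion (pullback.fst s ι).left :=
    MorphismProperty.of_isPullback (P := @IsClosedImmersion) sqS.flip ‹IsClosedImmersion ι.left›
  haveI : IsClosedImmersion (pullback.fst t ι).left :=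
    MorphismProperty.of_isPullback (P := @IsClosedImmersion) sqT.flip ‹IsClosedImmersion ι.left›
  haveI : IsReduced (pullback s ι).left := SmoothReduced.isReduced_of_smooth_scheme (pullback.snd s ι).left
  haveI : IsReduced (pullback t ι).left := SmoothReduced.isReduced_of_smooth_scheme (pullback.snd t ι).left
  have hrange : ∀ (u : R ⟶ V), (∀ z, Points.ofPt b (u.left z) = Points.ofPt b (s.left z)) →
      Set.range (pullback.fst u ι).left = s.left ⁻¹' Set.range ι.left := by
    intro u hu
    have sqU := (IsPullback.of_hasPullback u ι).map (Over.forget S)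
    ext z
    constructor
    · rintro ⟨w, rfl⟩
      rw [Set.mem_preimage, hι, Set.mem_preimage, ← hu]
      have h1 : u.left ((pullback.fst u ι).left w) = ι.left ((pullback.snd u ι).left w) :=
        congrArg (fun k => k w) sqU.w
      rw [h1]
      exact hι.le ⟨_, rfl⟩
    · intro hz
      rw [Set.mem_preimage, hι, Set.mem_preimage, ← hu] at hz
      obtain ⟨c, hc⟩ := hι.ge hz
      obtain ⟨w, hw, -⟩ := Scheme.Pullback.exists_preimage_pullback (f := u.left) (g := ι.left) z c hc.symm
      refine ⟨sqU.isoPullback.inv w, ?_⟩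
      exact (congrArg (fun k => k w) sqU.isoPullback_inv_fst).trans hw
  obtain ⟨φ, hφ⟩ := exists_lift (pullback.fst s ι) (pullback.fst t ι)
    (by rw [hrange s fun _ => rfl, hrange t hst])
  obtain ⟨ψ, hψ⟩ := exists_lift (pullback.fst t ι) (pullback.fst s ι)
    (by rw [hrange s fun _ => rfl, hrange t hst])
  haveI := mono_of_closedImmersion (pullback.fst s ι)
  haveI := mono_of_closedImmersion (pullback.fst t ι)
  haveI : IsIso φ :=
    ⟨ψ, by rw [← cancel_mono (pullback.fst s ι), Category.assoc, hψ, hφ, Category.id_comp],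
      by rw [← cancel_mono (pullback.fst t ι), Category.assoc, hφ, hψ, Category.id_comp]⟩
  let c₁ : pullback s ι ⟶ C := φ ≫ pullback.snd t ι
  let c₂ : pullback s ι ⟶ C := pullback.snd s ι
  haveI : IsIso φ.left := inferInstanceAs (IsIso ((Over.forget S).map φ))
  haveI : Etale c₁.left := by simp only [c₁, Over.comp_left]; infer_instance
  have hc₁ι : c₁ ≫ ι = pullback.fst s ι ≫ t := by
    simp only [c₁, Category.assoc]
    rw [← pullback.condition, reassoc_of% hφ]
  let q₀ : (yon S).obj C ⟶ X.obj := (yon S).map ι ≫ b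
  haveI : Mono ((yon S).map ι) := inferInstance
  have sqD := (IsPullback.of_hasPullback s ι).map (yon S)
  have w₀ : (yon S).map c₁ ≫ q₀ = (yon S).map c₂ ≫ q₀ := by
    simp only [q₀, c₂, ← Functor.map_comp_assoc, hc₁ι, ← pullback.condition]
    simp only [Functor.map_comp, Category.assoc, sq.w]
  let q := Sheaf.toImage q₀
  have hq : q ≫ Sheaf.imageι q₀ = q₀ := Sheaf.toImage_ι q₀
  haveI : Mono (Sheaf.imageι q₀) := inferInstance
  haveI : Sheaf.IsLocallySurjective q := (Sheaf.isLocallySurjective_iff_epi' _ _).2 inferInstance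
  have w : (yon S).map c₁ ≫ q = (yon S).map c₂ ≫ q := by
    rw [← cancel_mono (Sheaf.imageι q₀), Category.assoc, Category.assoc, hq]; exact w₀
  have hl : ∀ c : PullbackCone q q, ∃ l, l ≫ (yon S).map c₁ = c.fst ∧ l ≫ (yon S).map c₂ = c.snd := fun c => by
    have h1 : (c.fst ≫ (yon S).map ι) ≫ b = (c.snd ≫ (yon S).map ι) ≫ b := by
      rw [Category.assoc, Category.assoc]
      change c.fst ≫ q₀ = c.snd ≫ q₀
      have e := congrArg (· ≫ Sheaf.imageι q₀) c.condition
      simp only [Category.assoc, hq] at e
      exact e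
    let l₀ := sq.lift _ _ h1
    have h2 : l₀ ≫ (yon S).map s = c.snd ≫ (yon S).map ι := sq.lift_snd _ _ _
    refine ⟨sqD.lift l₀ c.snd h2, ?_, sqD.lift_snd _ _ _⟩
    rw [← cancel_mono ((yon S).map ι), Category.assoc, ← Functor.map_comp, hc₁ι, Functor.map_comp,
      sqD.lift_fst_assoc]
    exact sq.lift_fst _ _ _
  choose l hl₁ hl₂ using hl
  have sqR : IsPullback ((yon S).map c₁) ((yon S).map c₂) q q := by
    refine ⟨⟨w⟩, ⟨PullbackCone.IsLimit.mk w l hl₁ hl₂ fun c m h₁ h₂ => sqD.hom_ext (sq.hom_ext ?_ ?_) ?_⟩⟩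
    · have e := congrArg (· ≫ (yon S).map ι) (h₁.trans (hl₁ c).symm)
      simpa only [Category.assoc, ← Functor.map_comp, hc₁ι] using e
    · have e := congrArg (· ≫ (yon S).map ι) (h₂.trans (hl₂ c).symm)
      simpa only [Category.assoc, ← Functor.map_comp, c₂, pullback.condition] using e
    · exact h₂.trans (hl₂ c).symm
  obtain ⟨hZ, hE, hS⟩ := isAlgSpace_of_etale_kernelPair q sqR
  let Z : Space S := ⟨Sheaf.image q₀, hZ⟩
  let i : Z ⟶ X := ObjectProperty.homMk (Sheaf.imageι q₀)
  refine ⟨Z, i, ?_, ⟨C, q, hE, hS, inferInstance⟩, ?_⟩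
  · -- closed immersion, checked on the chart
    have sP := IsPullback.of_hasPullback (Sheaf.imageι q₀) b
    let k : (yon S).obj C ⟶ pullback (Sheaf.imageι q₀) b := sP.lift q ((yon S).map ι) hq
    have hk : k ≫ pullback.snd (Sheaf.imageι q₀) b = (yon S).map ι := sP.lift_snd _ _ _
    haveI : Mono k := mono_of_mono_fac hk
    have sW := IsPullback.of_hasPullback q (pullback.fst (Sheaf.imageι q₀) b)
    let f₁ := pullback.fst q (pullback.fst (Sheaf.imageι q₀) b)
    let f₂ := pullback.snd q (pullback.fst (Sheaf.imageι q₀) b)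
    haveI : Epi f₂ := AlgSpLoc.epi_of_repWith (repWith_of_isPullback sW hE) (repWith_of_isPullback sW hS)
    have we : (f₁ ≫ (yon S).map ι) ≫ b = (f₂ ≫ pullback.snd (Sheaf.imageι q₀) b) ≫ b := by
      rw [Category.assoc, Category.assoc, ← sP.w]
      change f₁ ≫ q₀ = _
      have e := congrArg (· ≫ Sheaf.imageι q₀) sW.w
      simp only [Category.assoc, hq] at e
      exact e
    let e := sq.lift _ _ we
    have sqT' := (IsPullback.of_hasPullback t ι).map (yon S)
    let m := sqT'.lift e f₁ (sq.lift_fst _ _ _) ≫ (yon S).map (ψ ≫ pullback.snd s ι)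
    have hm : m ≫ k = f₂ := by
      rw [← cancel_mono (pullback.snd (Sheaf.imageι q₀) b), Category.assoc, hk]
      simp only [m, Category.assoc, ← Functor.map_comp, ← pullback.condition, reassoc_of% hψ]
      rw [Functor.map_comp, sqT'.lift_fst_assoc]
      exact sq.lift_snd _ _ _
    haveI : Epi k := epi_of_epi_fac hm
    haveI : IsIso k := isIso_of_mono_of_epi k
    refine AlgSpDesc.of_fpqc hZ X.property hb hbs sP AlgSpLoc.isLocalOnBase_closedImmersion ?_
    rw [← IsIso.inv_comp_eq k |>.2 hk.symm]
    exact repWith_comp (repWith_iso _) ((repWith_yon_map_iff _ _).2 ‹IsClosedImmersion ι.left›)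
  · ext x
    constructor
    · rintro ⟨z, rfl⟩
      obtain ⟨c, rfl⟩ := surjective_ofPt hS z
      change Points.map (Sheaf.imageι q₀) (Points.ofPt q c) ∈ T
      rw [Points.map_ofPt, hq]
      simp only [q₀, ofPt_comp]
      exact hι.le ⟨c, rfl⟩
    · intro hx
      obtain ⟨v, rfl⟩ := surjective_ofPt hbs x
      obtain ⟨c, hc⟩ := hι.ge hx
      refine ⟨Points.ofPt q c, ?_⟩
      change Points.map (Sheaf.imageι q₀) _ = _
      rw [Points.map_ofPt, hq]
      simp only [q₀, ofPt_comp, hc]

end Groth.Agent.AlgSpRedSub
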