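import Groth.Agent.AlgSpRedSub.Basic
import Groth.Agent.AlgSpDesc.SepDescend

/-!
Properness of closed subspaces only depends on the underlying closed sets.
-/

set_option autoImplicit false
set_option linter.style.haveILetI false
set_option backward.isDefEq.respectTransparency false
universe u

open CategoryTheory Limits AlgebraicGeometry
open AlgSp

namespace Groth.Agent.AlgSpRedSub

open Groth.Agent.AlgSpc Groth.Agent.AlgSpDesc

variable {S : Scheme.{u}}

theorem isUnivClosedMor_of_cover {J : Type*} [Finite J] {X : J → Sp S} {Y B : Sp S} (f : ∀ j, X j ⟶ Y)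
    (q : Y ⟶ B) (hp : ∀ j, IsUnivClosedMor (f j ≫ q)) (hs : ∀ y, ∃ j x, Points.map (f j) x = y) :
    IsUnivClosedMor q := by
  intro Z Z' hZ g fst snd sq C hC
  have sA := fun j => IsPullback.of_hasPullback (f j) fst
  have hcl : ∀ j, IsClosed (Points.map (pullback.snd (f j) fst ≫ snd) ''
      (Points.map (pullback.snd (f j) fst) ⁻¹' C)) := fun j =>
    hp j hZ g _ _ ((sA j).paste_vert sq) _ (hC.preimage (Points.continuous_map _))
  convert isClosed_iUnion_of_finite hcl using 1
  ext z
  simp only [Set.mem_image, Set.mem_iUnion, Set.mem_preimage]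
  constructor
  · rintro ⟨w, hw, rfl⟩
    obtain ⟨j, x, hx⟩ := hs (Points.map fst w)
    obtain ⟨v, -, hv⟩ := exists_point_of_isPullback (sA j) x w hx
    exact ⟨j, v, by rw [hv]; exact hw, by rw [Points.map_comp, hv]⟩
  · rintro ⟨j, v, hv, rfl⟩
    exact ⟨_, hv, (Points.map_comp _ _ _).symm⟩

theorem isQuasiCompactMor_of_cover {J : Type*} [Finite J] {X : J → Sp S} {Y B : Sp S} (hY : IsAlgSpace Y)
    (hB : IsAlgSpace B) (f : ∀ j, X j ⟶ Y) (q : Y ⟶ B) (hp : ∀ j, IsQuasiCompactMor (f j ≫ q))
    (hs : ∀ y, ∃ j x, Points.map (f j) x = y) : IsQuasiCompactMor q := by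
  intro W W' hW hWc g fst snd sq
  have hW' := isAlgSpace_of_isPullback hY hB hW sq
  have sA := fun j => IsPullback.of_hasPullback (f j) fst
  rw [isQuasiCompactSp_iff hW']
  refine ⟨?_⟩
  convert isCompact_iUnion fun j =>
    haveI := compactSpace_points (hp j hW hWc g _ _ ((sA j).paste_vert sq))
    isCompact_range (Points.continuous_map (pullback.snd (f j) fst)) using 1
  refine (Set.eq_univ_of_forall fun w => ?_).symm
  obtain ⟨j, x, hx⟩ := hs (Points.map fst w)
  obtain ⟨v, -, hv⟩ := exists_point_of_isPullback (sA j) x w hx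
  exact Set.mem_iUnion.2 ⟨j, v, hv⟩

/-- A locally finite type morphism is proper if its source is covered by finitely many universally
closed maps with proper composites. -/
theorem isProperMor_of_cover {J : Type*} [Finite J] {X : J → Sp S} {Y B : Sp S} (hX : ∀ j, IsAlgSpace (X j))
    (hY : IsAlgSpace Y) (hB : IsAlgSpace B) (f : ∀ j, X j ⟶ Y) (q : Y ⟶ B)
    (hf : ∀ j, IsUnivClosedMor (f j)) (hp : ∀ j, IsProperMor (f j ≫ q))
    (hs : ∀ y, ∃ j x, Points.map (f j) x = y) (hq : LocP @LocallyOfFiniteType q) : IsProperMor q := by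
  have hP := isAlgSpace_of_isPullback hY hB hY (IsPullback.of_hasPullback q q)
  refine ⟨(AlgSpFormal.closedImmersion_iff hY hP).2 ⟨?_, ?_, inferInstance⟩,
    ⟨hq, isQuasiCompactMor_of_cover hY hB f q (fun j => (hp j).2.1.2) hs⟩,
    isUnivClosedMor_of_cover f q (fun j => (hp j).2.2) hs⟩
  · refine isUnivClosedMor_of_cover f _ (fun j => ?_) hs
    rw [← diagonal_comp_map]
    exact univSp_comp isClosedMor_comp
      (isAlgSpace_of_isPullback (hX j) hB (hX j) (IsPullback.of_hasPullback _ _))
      hP (isProperMor_of_repWith_closedImmersion (hp j).1).2.2 (univClosed_map (hX j) hY hB (hf j))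
  · exact locP_of_repWith EtLoc.precomp
      (repWith_mono (fun _ _ k h => h.1) (AlgStB.representable_lft_mono_diagonal hY q))

/-- A closed subspace whose points are covered by closed subspaces proper over the base is proper. -/
theorem isProperMor_of_range {J : Type*} [Finite J] {X Y : Space S} {Z : J → Space S} {Z' : Space S}
    (f : X ⟶ Y) (hf : LocP @LocallyOfFiniteType f.hom) (i : ∀ j, Z j ⟶ X) (i' : Z' ⟶ X)
    (hc : ∀ j, IsUnivClosedMor (i j).hom)
    (hi' : RepWith @IsClosedImmersion i'.hom) (hZ : ∀ j, IsProperMor (i j ≫ f).hom)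
    (hle : Set.range (Points.map i'.hom) ⊆ ⋃ j, Set.range (Points.map (i j).hom)) :
    IsProperMor (i' ≫ f).hom := by
  have sA := fun j => IsPullback.of_hasPullback (i j).hom i'.hom
  have hP := fun j => isAlgSpace_of_isPullback (Z j).property X.property Z'.property (sA j)
  have hi'P := isProperMor_of_repWith_closedImmersion hi'
  refine isProperMor_of_cover hP Z'.property Y.property (fun j => pullback.snd _ _) _
    (fun j => univSp_base_change (sA j) (hc j)) (fun j => ?_) (fun y => ?_) ?_
  · change IsProperMor (pullback.snd _ _ ≫ i'.hom ≫ f.hom)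
    rw [← (sA j).w_assoc]
    exact isProperMor_comp (hP j) (Z j).property Y.property
      (isProperMor_of_repWith_closedImmersion (repWith_of_isPullback (sA j).flip hi')) (hZ j)
  · obtain ⟨j, x, hx⟩ := Set.mem_iUnion.1 (hle ⟨y, rfl⟩)
    obtain ⟨v, -, hv⟩ := exists_point_of_isPullback (sA j) x y hx
    exact ⟨j, v, hv⟩
  · exact locP_comp Z'.property X.property Y.property hi'P.2.1.1 hf

/-- Finitely many universally closed images of spaces proper over the base form a closed subspace
proper over the base. -/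
theorem exists_proper_sub {J : Type*} [Finite J] {X Y : Space S} {Z : J → Space S}
    (f : X ⟶ Y) (hf : LocP @LocallyOfFiniteType f.hom) (i : ∀ j, Z j ⟶ X)
    (hc : ∀ j, IsUnivClosedMor (i j).hom) (hZ : ∀ j, IsProperMor (i j ≫ f).hom) :
    IsClosed (⋃ j, Set.range (Points.map (i j).hom)) ∧ ∃ (W : Space S) (k : W ⟶ X),
      RepWith @IsClosedImmersion k.hom ∧
      Set.range (Points.map k.hom) = ⋃ j, Set.range (Points.map (i j).hom) ∧
      IsProperMor (k ≫ f).hom := by
  have hT : IsClosed (⋃ j, Set.range (Points.map (i j).hom)) := isClosed_iUnion_of_finite fun j =>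
    ((hc j) X.property (𝟙 _) (𝟙 _) _ (IsPullback.of_horiz_isIso ⟨by simp⟩)).isClosed_range
  obtain ⟨W, k, hk, -, hr⟩ := exists_redSub X hT
  exact ⟨hT, W, k, hk, hr, isProperMor_of_range f hf i k hc hk hZ hr.le⟩

end Groth.Agent.AlgSpRedSub
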